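import Cfsg.Agent.H508.Dens.Form
import Cfsg.Agent.BpExc.TowChev

/-!
# Density of the fixed points of a Frobenius automorphism in unipotent groups (helper508, hub H9, task H9-U2)

`density` : `S` a closed `g`-invariant set of positive roots, `τ` a frame automorphism of Frobenius type; a subspace of
the adjoint module stable under the fixed points of `τ` in `Sup (XX D l k) S` is stable under `Sup (XX D l k) S`.
-/

set_option autoImplicit false
set_option linter.unusedSectionVars false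

namespace Cfsg.Agent.H508.Dens

open Cfsg.Agent.ChevalleyStructure.RootVec Cfsg.Agent.ChevalleyStructure.RootVecTab
open CoxeterSystem Cfsg Cfsg.Lie Cfsg.Agent.ChevalleyStructure Cfsg.Agent.ChevalleyStructure.Elts
  Cfsg.Agent.ChevalleyStructure.CoxeterGeom Cfsg.Agent.ChevalleyStructure.CoxeterGeomTypes
  Cfsg.Agent.ChevalleyStructure.NPerm Cfsg.Agent.Tits.Roots Cfsg.Agent.Tits.Core Cfsg.Agent.Tits.RootComb
  Cfsg.Agent.Nodes.Reps
  Cfsg.Agent.Nodes.BNOf Cfsg.Agent.Nodes.RGDChev Cfsg.Agent.KFacts.RgdChevCoord Cfsg.Agent.LangThm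
  Cfsg.Agent.BpExc.Fr Cfsg.Agent.BpExc.LangFr
open scoped commutatorElement

universe u

/-- the subspace `L` is stable under `u` -/
def StabU {D : ChevalleyDatum} {k : Type u} [Field k] (L : Submodule k (D.Idx → k)) (u : ↥(D.group k)) : Prop :=
  ∀ v ∈ L, ((u : GL D.Idx k) : Matrix D.Idx D.Idx k).mulVec v ∈ L

section StabU

variable {D : ChevalleyDatum} {k : Type u} [Field k] {L : Submodule k (D.Idx → k)}

theorem StabU.one : StabU L (1 : ↥(D.group k)) := fun v hv => by
  show ((1 : Matrix D.Idx D.Idx k)).mulVec v ∈ L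
  rwa [Matrix.one_mulVec]

theorem StabU.mul {u w : ↥(D.group k)} (hu : StabU L u) (hw : StabU L w) : StabU L (u * w) := fun v hv => by
  have h1 := hu _ (hw v hv)
  rw [Matrix.mulVec_mulVec] at h1
  exact h1

theorem StabU.sup {l : ℕ} {S : Set (Fin l → ℤ)} (h : ∀ a ∈ S, ∀ u ∈ XX D l k a, StabU L u) {u : ↥(D.group k)}
    (hu : u ∈ RGD.Sup (XX D l k) S) : StabU L u := by
  have hu' : u ∈ ⨆ z : S, XX D l k z.1 := hu
  refine Subgroup.iSup_induction (fun z : S => XX D l k z.1) (C := fun u => StabU L u) hu' ?_ StabU.one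
    fun _ _ h1 h2 => h1.mul h2
  exact fun z u hu => h z.1 z.2 u hu

end StabU

/-! ### group theory -/

section Grp

variable {Y : Type*} [Group Y]

/-- the elements normalising `N` and commuting with `x` modulo `N` -/
def ctr (N : Subgroup Y) (x : Y) : Subgroup Y where
  carrier := {y | y ∈ Subgroup.normalizer (N : Set Y) ∧ ⁅y, x⁆ ∈ N}
  one_mem' := ⟨one_mem _, by rw [commutatorElement_one_left]; exact one_mem _⟩
  mul_mem' := by
    rintro y z ⟨h1, h2⟩ ⟨h3, h4⟩
    refine ⟨mul_mem h1 h3, ?_⟩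
    have e : ⁅y * z, x⁆ = (y * ⁅z, x⁆ * y⁻¹) * ⁅y, x⁆ := by
      simp only [commutatorElement_def]; group
    rw [e]
    exact mul_mem ((Subgroup.mem_normalizer_iff.1 h1 _).1 h4) h2
  inv_mem' := by
    rintro y ⟨h1, h2⟩
    refine ⟨inv_mem h1, ?_⟩
    have e : ⁅y⁻¹, x⁆ = y⁻¹ * ⁅y, x⁆⁻¹ * y⁻¹⁻¹ := by
      simp only [commutatorElement_def]; group
    rw [e]
    exact (Subgroup.mem_normalizer_iff.1 (inv_mem h1) _).1 (inv_mem h2)

/-- the product `x * σ x * ⋯ * σ ^ (n-1) x` -/
def orb (σ : MulAut Y) (x : Y) (n : ℕ) : Y := ((List.range n).map fun i => (σ ^ i) x).prod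

theorem orb_succ (σ : MulAut Y) (x : Y) (n : ℕ) : orb σ x (n + 1) = orb σ x n * (σ ^ n) x := by
  unfold orb
  rw [List.range_succ, List.map_append, List.prod_append, List.map_singleton, List.prod_singleton]

theorem map_orb (σ : MulAut Y) (x : Y) (n : ℕ) : σ (orb σ x n) = x⁻¹ * orb σ x n * (σ ^ n) x := by
  induction n with
  | zero => simp [orb]
  | succ n ih =>
    rw [orb_succ, map_mul, ih, pow_succ' σ n]
    show x⁻¹ * orb σ x n * (σ ^ n) x * σ ((σ ^ n) x) = x⁻¹ * (orb σ x n * (σ ^ n) x) * σ ((σ ^ n) x)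
    group

end Grp

variable {D : ChevalleyDatum} {k : Type u} [Field k]
variable {l : ℕ} {M : CoxeterMatrix (Fin l)} (hp : IsType D l M) {W : Type*} [Group W] (cs : CoxeterSystem M W)

include hp cs in
/-- **The commutator relations, integral form.** -/
theorem comm_mem_int {x y : Fin l → ℤ} (hx : IsRoot cs hp.isCartan x) (hy : IsRoot cs hp.isCartan y) (hxy : x ≠ y)
    (hxy' : x ≠ -y) {a b : ↥(D.group k)} (ha : a ∈ XX D l k x) (hb : b ∈ XX D l k y) :
    ⁅a, b⁆ ∈ RGD.Sup (XX D l k) {z | IsRoot cs hp.isCartan z ∧ ∃ i j : ℤ, 0 < i ∧ 0 < j ∧ z = i • x + j • y} := by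
  obtain ⟨s, hs, rfl⟩ := (isRoot_iff hp cs x).1 hx
  obtain ⟨r, hr, rfl⟩ := (isRoot_iff hp cs y).1 hy
  obtain ⟨u, hu⟩ := (mem_XX_vec hp hs).1 ha
  obtain ⟨t, ht⟩ := (mem_XX_vec hp hr).1 hb
  have hne : s ≠ r := fun h => hxy (by rw [h])
  have hne' : s ≠ D.neg r := fun h => hxy' (by rw [h, vec_neg hp hr])
  have e : ⁅xG hp.inList s u, xG hp.inList r t⁆ = wordG hp.inList (D.commWord k r s (-t) (-u)) := by
    rw [← comm_xG hp hr hs hne hne', xG_inv, xG_inv, _root_.neg_neg, _root_.neg_neg]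
  -- the subgroup of `GL`
  have key : wordG hp.inList (D.commWord k r s (-t) (-u)) ∈ (RGD.Sup (XX D l k)
      {z | IsRoot cs hp.isCartan z ∧ ∃ i j : ℤ, 0 < i ∧ 0 < j ∧ z = i • vec D l s + j • vec D l r}).map
        (D.group k).subtype := by
    refine wordG_mem hp _ _ ?_
    intro c hc
    have hc' : c ∈ (D.commTerms r s).map fun c => (c.1, (c.2.1 : k) * (- -t) ^ c.2.2.1 * (-u) ^ c.2.2.2) := hc
    rw [List.mem_map] at hc'
    obtain ⟨⟨v, C, i, j⟩, hv, rfl⟩ := hc'
    obtain ⟨hv1, -, -, hi, hj, hvec⟩ := commTerms_rt hp.checked hv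
    refine ⟨⟨xG hp.inList v _, xG_mem_group hp.inList v _⟩, ?_, rfl⟩
    have hvS : vec D l v ∈
        {z | IsRoot cs hp.isCartan z ∧ ∃ i j : ℤ, 0 < i ∧ 0 < j ∧ z = i • vec D l s + j • vec D l r} := by
      refine ⟨isRoot_vec hp cs hv1, (j : ℤ), (i : ℤ), by exact_mod_cast hj, by exact_mod_cast hi, ?_⟩
      funext k
      rw [vec_apply, hvec, Pi.add_apply, Pi.smul_apply, Pi.smul_apply, smul_eq_mul, smul_eq_mul, vec_apply, vec_apply,
        add_comm]
    exact RGD.le_Sup hvS ((mem_XX_vec hp hv1).2 ⟨_, rfl⟩)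
  obtain ⟨c, hc, hce⟩ := key
  have h1 : c = ⁅a, b⁆ := by
    apply Subtype.ext
    rw [show (c : GL D.Idx k) = wordG hp.inList (D.commWord k r s (-t) (-u)) from hce, ← e, ← hu, ← ht]
    rfl
  rw [← h1]
  exact hc

/-! ### the invariant height -/

/-- the sum of the heights over `n` steps of the orbit -/
def gh (g : (Fin l → ℤ) ≃+ (Fin l → ℤ)) (n : ℕ) (a : Fin l → ℤ) : ℤ := ∑ i ∈ Finset.range n, ht (g^[i] a)

theorem iter_lin (g : (Fin l → ℤ) ≃+ (Fin l → ℤ)) (n : ℕ) (i j : ℤ) (a b : Fin l → ℤ) :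
    g^[n] (i • a + j • b) = i • g^[n] a + j • g^[n] b := by
  induction n with
  | zero => rfl
  | succ n ih => rw [Function.iterate_succ_apply', ih, map_add, map_zsmul, map_zsmul,
      Function.iterate_succ_apply', Function.iterate_succ_apply']

theorem gh_lin (g : (Fin l → ℤ) ≃+ (Fin l → ℤ)) (n : ℕ) (i j : ℤ) (a b : Fin l → ℤ) :
    gh g n (i • a + j • b) = i * gh g n a + j * gh g n b := by
  unfold gh
  rw [Finset.mul_sum, Finset.mul_sum, ← Finset.sum_add_distrib]
  refine Finset.sum_congr rfl fun m _ => ?_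
  rw [iter_lin, RGD.ht_add, RGD.ht_smul, RGD.ht_smul]

theorem gh_map (g : (Fin l → ℤ) ≃+ (Fin l → ℤ)) {n : ℕ} {a : Fin l → ℤ} (h : g^[n] a = a) :
    gh g n (g a) = gh g n a := by
  unfold gh
  have h1 : ∑ i ∈ Finset.range n, ht (g^[i] (g a)) = ∑ i ∈ Finset.range n, ht (g^[i + 1] a) :=
    Finset.sum_congr rfl fun i _ => by rw [← Function.iterate_succ_apply]
  rw [h1]
  have h2 := Finset.sum_range_succ' (fun i => ht (g^[i] a)) n
  have h3 := Finset.sum_range_succ (fun i => ht (g^[i] a)) n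
  rw [h3, h] at h2
  simp only [Function.iterate_zero, id_eq] at h2
  linarith

theorem gh_pos {g : (Fin l → ℤ) ≃+ (Fin l → ℤ)} {n : ℕ} (hn : 0 < n) {S : Set (Fin l → ℤ)}
    (hS : ∀ a ∈ S, IsRoot cs hp.isCartan a ∧ 0 ≤ a) (hg : ∀ a ∈ S, g a ∈ S) {a : Fin l → ℤ} (ha : a ∈ S) :
    0 < gh g n a := by
  have h1 : ∀ i, g^[i] a ∈ S := by
    intro i
    induction i with
    | zero => exact ha
    | succ i ih => rw [Function.iterate_succ_apply']; exact hg _ ih
  unfold gh
  refine Finset.sum_pos (fun i _ => ?_) ⟨0, Finset.mem_range.2 hn⟩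
  exact RGD.ht_pos (hS _ (h1 i)).1 (hS _ (h1 i)).2

include hp cs in
/-- some power of `g` fixes all roots -/
theorem exists_period {g : (Fin l → ℤ) ≃+ (Fin l → ℤ)}
    (hg : ∀ a, IsRoot cs hp.isCartan (g a) ↔ IsRoot cs hp.isCartan a) :
    ∃ n : ℕ, 0 < n ∧ ∀ a, IsRoot cs hp.isCartan a → g^[n] a = a := by
  have := finite_W hp cs
  have hfin : Finite {a // IsRoot cs hp.isCartan a} :=
    (RGD.finite_roots (cs := cs) (h := hp.isCartan)).to_subtype
  let π : Equiv.Perm {a // IsRoot cs hp.isCartan a} := Equiv.Perm.subtypePerm g.toEquiv hg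
  have h1 : ∀ (n : ℕ) (a : {a // IsRoot cs hp.isCartan a}), (((π ^ n) a : {a // IsRoot cs hp.isCartan a}) :
      Fin l → ℤ) = g^[n] a := by
    intro n a
    induction n with
    | zero => rfl
    | succ n ih => rw [pow_succ', Function.iterate_succ_apply', ← ih]; rfl
  refine ⟨orderOf π, orderOf_pos π, fun a ha => ?_⟩
  have h2 := h1 (orderOf π) ⟨a, ha⟩
  rw [pow_orderOf_eq_one] at h2
  exact h2.symm

/-! ### the induction -/

section Main

variable [IsAlgClosed k] {r e : ℕ} [Fact r.Prime] [CharP k r] {τ : MulAut ↥(D.group k)}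
  {g : (Fin l → ℤ) ≃+ (Fin l → ℤ)}

theorem mem_XX_iff {a : Fin l → ℤ} (ha : IsRoot cs hp.isCartan a) {y : ↥(D.group k)} :
    y ∈ XX D l k a ↔ ∃ c, xc hp a c = y := by
  obtain ⟨s, hs, rfl⟩ := (isRoot_iff hp cs a).1 ha
  rw [mem_XX_vec hp hs]
  constructor
  · rintro ⟨c, hc⟩
    exact ⟨c, Subtype.ext (by rw [coe_xc hp hs, hc])⟩
  · rintro ⟨c, rfl⟩
    exact ⟨c, coe_xc hp hs c⟩

include hp cs in
/-- **The polynomial step.** -/
theorem orb_step (he : 0 < e) (hτ : IsFrob r e τ) (F : Fr cs hp.isCartan (TT D k) (XX D l k) τ g)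
    (hq : 3 ≤ r ^ e) (hG2 : D = chevG2 → 4 ≤ r ^ e) (L : Submodule k (D.Idx → k)) {n : ℕ} (hn : 0 < n)
    {a : Fin l → ℤ} (ha : IsRoot cs hp.isCartan a) (hna : g^[n] a = a)
    (h : ∀ x ∈ XX D l k a, (τ ^ n) x = x → StabU L (orb τ x n)) :
    ∀ x ∈ XX D l k a, StabU L x := by
  have hlen : lenCheck D (r ^ e - 1) = true := by
    refine lenCheck_of_mem hp.inList (by omega) fun h => ?_
    have := hG2 h
    omega
  -- the powers of `τ` on the root elements
  have hform : ∀ i : ℕ, ∃ u : k, u ≠ 0 ∧ ∀ c : k, (τ ^ i) (xc hp a c) = xc hp (g^[i] a) (u * c ^ (r ^ e) ^ i) := by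
    intro i
    obtain ⟨g', F', hg'⟩ := F.pow i
    obtain ⟨u, hu, h1⟩ := frob_form hp cs (hτ.pow i) F' ha
    refine ⟨u, hu, fun c => ?_⟩
    rw [h1, hg', mul_comm i e, pow_mul]
  choose u hu hform using hform
  -- the fixed parameters
  have hQ0 : (((r ^ e) ^ n : ℕ) : k) = 0 := by
    rw [Nat.cast_pow, Nat.cast_pow, CharP.cast_eq_zero, zero_pow he.ne', zero_pow hn.ne']
  obtain ⟨Z, hZ, hZ'⟩ := card_fix (hu n) (Q := (r ^ e) ^ n) (Nat.one_lt_pow hn.ne' (by omega)) hQ0
  let A : ℕ → Matrix D.Idx D.Idx (Polynomial k) := fun i =>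
    Ring.xR D (Polynomial k) (idx D l (g^[i] a)) (Polynomial.C (u i) * Polynomial.X)
  have hAe : ∀ i c, (A i).map (Polynomial.eval c) = ((xc hp (g^[i] a) (u i * c) : ↥(D.group k)) : GL D.Idx k) := by
    intro i c
    show (Ring.xR D (Polynomial k) (idx D l (g^[i] a)) (Polynomial.C (u i) * Polynomial.X)).map (Polynomial.eval c) = _
    rw [xR_eval, Polynomial.eval_mul, Polynomial.eval_C, Polynomial.eval_X]
    rfl
  have hstab : ∀ c ∈ Z, ∀ v ∈ L,
      (((List.range n).map fun i => (A i).map (Polynomial.eval (c ^ (r ^ e) ^ i))).prod).mulVec v ∈ L := by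
    intro c hc v hv
    have h1 : (τ ^ n) (xc hp a c) = xc hp a c := by rw [hform, hna, hZ' c hc]
    have h2 := h _ ((mem_XX_iff hp cs ha).2 ⟨c, rfl⟩) h1 v hv
    have h3 : ((orb τ (xc hp a c) n : ↥(D.group k)) : GL D.Idx k) =
        ((List.range n).map fun i => (((xc hp (g^[i] a) (u i * c ^ (r ^ e) ^ i) : ↥(D.group k)) : GL D.Idx k))).prod := by
      unfold orb
      rw [← Subgroup.coe_subtype, map_list_prod, List.map_map]
      congr 1
      refine List.map_congr_left fun i _ => ?_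
      rw [Function.comp_apply, hform]
    have h4 : (((orb τ (xc hp a c) n : ↥(D.group k)) : GL D.Idx k) : Matrix D.Idx D.Idx k) =
        ((List.range n).map fun i => (A i).map (Polynomial.eval (c ^ (r ^ e) ^ i))).prod := by
      rw [h3, ← Units.coeHom_apply, map_list_prod, List.map_map]
      congr 1
      refine List.map_congr_left fun i _ => ?_
      rw [hAe]
      rfl
    rw [h4] at h2
    exact h2
  have hfin : ∀ c, ∀ v ∈ L, ((A 0).map (Polynomial.eval c)).mulVec v ∈ L := by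
    intro c v hv
    refine poly_stab (q := r ^ e) (by omega) hn (fun i _ x y => ?_) (fun i _ x y => ?_) L Z hZ hstab c hv
    · have := xR_natDegree' hlen (by omega) (idx D l (g^[i] a)) (u i) x y
      show (Ring.xR D (Polynomial k) (idx D l (g^[i] a)) (Polynomial.C (u i) * Polynomial.X) x y).natDegree < _
      omega
    · rw [Polynomial.coeff_zero_eq_eval_zero]
      have h1 := congrFun (congrFun (hAe i 0) x) y
      rw [Matrix.map_apply, mul_zero] at h1
      rw [h1]
      have h2 : ((xc hp (g^[i] a) (0 : k) : ↥(D.group k)) : GL D.Idx k) = 1 := xG_zero hp.inList _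
      rw [h2]
      rfl
  intro x hx v hv
  obtain ⟨c, rfl⟩ := (mem_XX_iff hp cs ha).1 hx
  have h1 := hfin ((u 0)⁻¹ * c) v hv
  rw [hAe, Function.iterate_zero_apply, mul_inv_cancel_left₀ (hu 0)] at h1
  exact h1

include hp cs in
/-- **Density (task H9-U2).** -/
theorem density (he : 0 < e) (hτ : IsFrob r e τ) (F : Fr cs hp.isCartan (TT D k) (XX D l k) τ g)
    {S : Set (Fin l → ℤ)} (hS : ∀ a ∈ S, IsRoot cs hp.isCartan a ∧ 0 ≤ a) (hg : ∀ a ∈ S, g a ∈ S)
    (hS2 : ∀ a ∈ S, ∀ b ∈ S, ∀ i j : ℤ, 0 < i → 0 < j → IsRoot cs hp.isCartan (i • a + j • b) → i • a + j • b ∈ S)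
    (hq : 3 ≤ r ^ e) (hG2 : D = chevG2 → 4 ≤ r ^ e) (L : Submodule k (D.Idx → k))
    (h : ∀ u ∈ RGD.Sup (XX D l k) S, τ u = u → StabU L u) : ∀ u ∈ RGD.Sup (XX D l k) S, StabU L u := by
  obtain ⟨n, hn, hper⟩ := exists_period hp cs F.root
  have := finite_W hp cs
  have hSfin : S.Finite := (RGD.finite_roots (cs := cs) (h := hp.isCartan)).subset fun a ha => (hS a ha).1
  obtain ⟨B, hB⟩ : ∃ B : ℕ, ∀ a ∈ S, gh g n a < B := by
    obtain ⟨B, hB⟩ := (hSfin.image (gh g n)).bddAbove
    refine ⟨(B + 1).toNat, fun a ha => ?_⟩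
    have h1 := hB ⟨a, ha, rfl⟩
    have h2 := Int.self_le_toNat (B + 1)
    omega
  -- the filtration
  let T : ℕ → Set (Fin l → ℤ) := fun j => {a | a ∈ S ∧ (B : ℤ) - j ≤ gh g n a}
  have hTS : ∀ j, T j ⊆ S := fun j a ha => ha.1
  have hTg : ∀ j, ∀ a ∈ T j, g a ∈ T j := by
    intro j a ha
    refine ⟨hg a ha.1, ?_⟩
    rw [gh_map g (hper a (hS a ha.1).1)]
    exact ha.2
  have key : ∀ j : ℕ, ∀ u ∈ RGD.Sup (XX D l k) (T j), StabU L u := by
    intro j
    induction j with
    | zero =>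
      intro u hu
      refine StabU.sup (S := T 0) (fun a ha => ?_) hu
      exfalso
      have h1 := hB a ha.1
      have h2 := ha.2
      rw [Nat.cast_zero, sub_zero] at h2
      omega
    | succ j ih =>
      refine fun u hu => StabU.sup (S := T (j + 1)) (fun a ha => ?_) hu
      by_cases haT : a ∈ T j
      · exact fun x hx => ih x (RGD.le_Sup haT hx)
      have ha0 : gh g n a = (B : ℤ) - (j + 1 : ℕ) := by
        have h1 := ha.2
        by_contra hne
        apply haT
        refine ⟨ha.1, ?_⟩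
        push_cast at h1 hne ⊢
        omega
      have hpos := gh_pos hp cs hn hS hg ha.1
      -- `N` and the elements of height at least `gh a`
      have hmem : ∀ b ∈ T (j + 1), ∀ c ∈ T (j + 1), ∀ i m : ℤ, 0 < i → 0 < m →
          IsRoot cs hp.isCartan (i • b + m • c) → i • b + m • c ∈ T j := by
        intro b hb c hc i m hi hm hr
        refine ⟨hS2 b hb.1 c hc.1 i m hi hm hr, ?_⟩
        rw [gh_lin]
        have h1 := hb.2
        have h2 := hc.2
        push_cast at h1 h2 ha0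
        have h3 : 0 < gh g n b := by linarith
        have h4 : 0 < gh g n c := by linarith
        nlinarith
      have hneg : ∀ b ∈ S, ∀ c ∈ S, b ≠ -c := by
        intro b hb c hc hbc
        exact (hS b hb).1.not_pos_neg (hS b hb).2 (by rw [hbc]; exact neg_nonpos.2 (hS c hc).2)
      -- every root group of `T (j+1)` normalises `N`
      have hnorm : ∀ b ∈ T (j + 1), XX D l k b ≤
          Subgroup.normalizer (RGD.Sup (XX D l k) (T j) : Set ↥(D.group k)) := by
        intro b hb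
        have h1 : ∀ x ∈ XX D l k b, ∀ y ∈ RGD.Sup (XX D l k) (T j), x * y * x⁻¹ ∈ RGD.Sup (XX D l k) (T j) := by
          intro x hx y hy
          have h2 : RGD.Sup (XX D l k) (T j) ≤ (RGD.Sup (XX D l k) (T j)).comap (MulAut.conj x).toMonoidHom := by
            refine RGD.Sup_le fun c hc z hz => ?_
            show x * z * x⁻¹ ∈ RGD.Sup (XX D l k) (T j)
            by_cases hbc : b = c
            · subst hbc
              exact RGD.le_Sup hc (mul_mem (mul_mem hx hz) (inv_mem hx))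
            · have h3 := comm_mem_int hp cs (hS b hb.1).1 (hS c hc.1).1 hbc (hneg b hb.1 c hc.1) hx hz
              have h4 : x * z * x⁻¹ = ⁅x, z⁆ * z := by rw [commutatorElement_def]; group
              rw [h4]
              refine mul_mem (RGD.Sup_mono ?_ h3) (RGD.le_Sup hc hz)
              rintro w ⟨hw, i, m, hi, hm, rfl⟩
              exact hmem b hb c ⟨hc.1, by have := hc.2; push_cast at this ⊢; linarith⟩ i m hi hm hw
          exact h2 hy
        intro x hx
        rw [Subgroup.mem_normalizer_iff]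
        intro y
        constructor
        · exact h1 x hx y
        · intro hy
          have h2 := h1 x⁻¹ (inv_mem hx) _ hy
          have h3 : x⁻¹ * (x * y * x⁻¹) * x⁻¹⁻¹ = y := by group
          rwa [h3] at h2
      refine orb_step hp cs he hτ F hq hG2 L hn (hS a ha.1).1 (hper a (hS a ha.1).1) fun x hx hfix => ?_
      have horbit : ∀ i, g^[i] a ∈ T (j + 1) := by
        intro i
        induction i with
        | zero => exact ha
        | succ i ih => rw [Function.iterate_succ_apply']; exact hTg _ _ ih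
      -- the orbit product
      have hτi : ∀ i, (τ ^ i) x ∈ XX D l k (g^[i] a) := by
        intro i
        obtain ⟨g', F', hg'⟩ := F.pow i
        rw [← hg']
        exact (F'.map a (hS a ha.1).1 x).2 hx
      have hPmem : orb τ x n ∈ RGD.Sup (XX D l k) (T (j + 1)) := by
        unfold orb
        refine list_prod_mem fun y hy => ?_
        obtain ⟨i, -, rfl⟩ := List.mem_map.1 hy
        exact RGD.le_Sup (horbit i) (hτi i)
      have hctr : RGD.Sup (XX D l k) (T (j + 1)) ≤ ctr (RGD.Sup (XX D l k) (T j)) x⁻¹ := by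
        refine RGD.Sup_le fun b hb y hy => ⟨hnorm b hb hy, ?_⟩
        by_cases hba : b = a
        · subst hba
          have h1 : ⁅y, x⁻¹⁆ = 1 := by
            obtain ⟨c, rfl⟩ := (mem_XX_iff hp cs (hS b hb.1).1).1 hy
            obtain ⟨d, hd⟩ := (mem_XX_iff hp cs (hS b hb.1).1).1 (inv_mem hx)
            rw [← hd, commutatorElement_eq_one_iff_mul_comm]
            apply Subtype.ext
            show xG hp.inList _ c * xG hp.inList _ d = xG hp.inList _ d * xG hp.inList _ c
            rw [xG_add, xG_add, add_comm]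
          rw [h1]
          exact one_mem _
        · have h3 := comm_mem_int hp cs (hS b hb.1).1 (hS a ha.1).1 hba (hneg b hb.1 a ha.1) hy (inv_mem hx)
          refine RGD.Sup_mono ?_ h3
          rintro w ⟨hw, i, m, hi, hm, rfl⟩
          exact hmem b hb a ha i m hi hm hw
      have hw : (orb τ x n)⁻¹ * τ (orb τ x n) ∈ RGD.Sup (XX D l k) (T j) := by
        rw [map_orb, hfix]
        have h1 := (hctr (inv_mem hPmem)).2
        have h2 : (orb τ x n)⁻¹ * (x⁻¹ * orb τ x n * x) = ⁅(orb τ x n)⁻¹, x⁻¹⁆ := by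
          rw [commutatorElement_def]; group
        rw [h2]
        exact h1
      obtain ⟨z, hz, hwz⟩ := lang_fr hp cs he hτ F (S := T j) (fun a ha => (hS a ha.1).1) (hTg j) hw
      have hfixed : τ (orb τ x n * z⁻¹) = orb τ x n * z⁻¹ := by
        rw [map_mul, map_inv]
        have h1 : τ (orb τ x n) = orb τ x n * (z⁻¹ * τ z) := by rw [← hwz]; group
        rw [h1]
        group
      have h1 : StabU L (orb τ x n * z⁻¹) := by
        refine h _ (mul_mem (RGD.Sup_mono (hTS _) hPmem) (inv_mem (RGD.Sup_mono (hTS _) hz))) hfixed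
      have h2 := h1.mul (ih z hz)
      rwa [inv_mul_cancel_right] at h2
  intro u hu
  have hST : S ⊆ T B := by
    intro a ha
    refine ⟨ha, ?_⟩
    rw [sub_self]
    exact (gh_pos hp cs hn hS hg ha).le
  exact key B u (RGD.Sup_mono hST hu)

include hp cs in
/-- **Density (task H9-U2)**, natural coefficients in the closure hypothesis. -/
theorem density_nat (he : 0 < e) (hτ : IsFrob r e τ) (F : Fr cs hp.isCartan (TT D k) (XX D l k) τ g)
    {S : Set (Fin l → ℤ)} (hS : ∀ a ∈ S, IsRoot cs hp.isCartan a ∧ 0 ≤ a) (hg : ∀ a ∈ S, g a ∈ S)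
    (hS2 : ∀ a ∈ S, ∀ b ∈ S, ∀ i > 0, ∀ j > 0, IsRoot cs hp.isCartan (i • a + j • b) → i • a + j • b ∈ S)
    (hq : 3 ≤ r ^ e) (hG2 : D = chevG2 → 4 ≤ r ^ e) (L : Submodule k (D.Idx → k))
    (h : ∀ u ∈ RGD.Sup (XX D l k) S, τ u = u → StabU L u) : ∀ u ∈ RGD.Sup (XX D l k) S, StabU L u := by
  refine density hp cs he hτ F hS hg (fun a ha b hb i j hi hj hr => ?_) hq hG2 L h
  lift i to ℕ using hi.le
  lift j to ℕ using hj.le
  rw [natCast_zsmul, natCast_zsmul] at hr ⊢
  exact hS2 a ha b hb i (by exact_mod_cast hi) j (by exact_mod_cast hj) hr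

end Main

end Cfsg.Agent.H508.Dens
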