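import Cfsg.Agent.BpExc.LangFr

/-!
# The degrees of the entries of the root elements (helper508, hub H9)

`xP_natDegree` : the entries of `x_r(X)` have degree at most 2 (3 for `G₂`).
-/

set_option autoImplicit false

namespace Cfsg.Agent.H508.Dens

open Cfsg Cfsg.Lie Cfsg.Agent.ChevalleyStructure Cfsg.Agent.ChevalleyStructure.Elts Cfsg.Agent.ChevalleyStructure.Ring
open Cfsg.Agent.LangThm Polynomial

/-- the chains have length at most `n` -/
def lenCheck (D : ChevalleyDatum) (n : ℕ) : Bool :=
  D.chain.toList.all fun row => row.toList.all fun e => decide (e.2.toList.length ≤ n)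

theorem lenCheck_G2 : lenCheck chevG2 3 = true := by decide +kernel
theorem lenCheck_B2 : lenCheck chevB2 2 = true := by decide +kernel
theorem lenCheck_D4 : lenCheck chevD4 2 = true := by decide +kernel
theorem lenCheck_F4 : lenCheck chevF4 2 = true := by decide +kernel
theorem lenCheck_E6 : lenCheck chevE6 2 = true := by decide +kernel
theorem lenCheck_E7 : lenCheck chevE7 2 = true := by decide +kernel
theorem lenCheck_E8 : lenCheck chevE8 2 = true := by decide +kernel

theorem lenCheck_mono {D : ChevalleyDatum} {n n' : ℕ} (h : lenCheck D n = true) (hn : n ≤ n') :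
    lenCheck D n' = true := by
  unfold lenCheck at h ⊢
  rw [List.all_eq_true] at h ⊢
  intro row hrow
  have h1 := h row hrow
  rw [List.all_eq_true] at h1 ⊢
  intro e he
  exact decide_eq_true ((of_decide_eq_true (h1 e he)).trans hn)

theorem lenCheck_of_mem {D : ChevalleyDatum} (hD : InList D) {n : ℕ} (h2 : 2 ≤ n) (h3 : D = chevG2 → 3 ≤ n) :
    lenCheck D n = true := by
  simp only [InList, List.mem_cons, List.not_mem_nil, or_false] at hD
  rcases hD with h | h | h | h | h | h | h
  · have := h3 h
    subst h
    exact lenCheck_mono lenCheck_G2 this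
  · subst h; exact lenCheck_mono lenCheck_B2 h2
  · subst h; exact lenCheck_mono lenCheck_D4 h2
  · subst h; exact lenCheck_mono lenCheck_F4 h2
  · subst h; exact lenCheck_mono lenCheck_E6 h2
  · subst h; exact lenCheck_mono lenCheck_E7 h2
  · subst h; exact lenCheck_mono lenCheck_E8 h2

theorem chainCoeff_le {D : ChevalleyDatum} {n : ℕ} (h : lenCheck D n = true) {r s u : ℕ} {km : ℕ × ℤ}
    (hkm : km ∈ D.chainCoeff r s u) : km.1 ≤ n := by
  unfold lenCheck at h
  rw [List.all_eq_true] at h
  unfold ChevalleyDatum.chainCoeff at hkm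
  rw [List.mem_flatMap] at hkm
  obtain ⟨e, he, hkm⟩ := hkm
  rw [List.mem_filter] at he
  rw [List.mem_map] at hkm
  obtain ⟨q, hq, rfl⟩ := hkm
  rw [List.mem_filter] at hq
  have h1 : q.2 < e.2.toList.length := by
    have h2 := (List.mem_zipIdx hq.1).2.1
    simpa using h2
  by_cases hr : r < D.chain.size
  · have h2 : D.chain.getD r #[] ∈ D.chain.toList := by
      rw [Array.getD_eq_getD_getElem?, Array.getElem?_eq_getElem hr]
      simp
    have h3 := h _ h2
    rw [List.all_eq_true] at h3
    have h4 := of_decide_eq_true (h3 e he.1)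
    show q.2 + 1 ≤ n
    omega
  · exfalso
    have h2 : D.chain.getD r #[] = #[] := by
      rw [Array.getD_eq_getD_getElem?, Array.getElem?_eq_none (by omega)]
      rfl
    rw [h2] at he
    simp at he

theorem natDegree_sum_le {k : Type*} [Field k] {n : ℕ} (l : List k[X]) (h : ∀ f ∈ l, f.natDegree ≤ n) :
    l.sum.natDegree ≤ n := by
  induction l with
  | nil => rw [List.sum_nil, natDegree_zero]; omega
  | cons f l ih =>
    rw [List.sum_cons]
    exact (natDegree_add_le _ _).trans (max_le (h f List.mem_cons_self)
      (ih fun g hg => h g (List.mem_cons_of_mem _ hg)))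

theorem xMatR_natDegree {D : ChevalleyDatum} {k : Type*} [Field k] {n : ℕ} (h : lenCheck D n = true) (h2 : 2 ≤ n)
    (r : Fin D.nroots) (a b : D.Idx) : (xMatR D k[X] r X a b).natDegree ≤ n := by
  have hi : ∀ z : ℤ, (((z : ℤ) : k[X]) * X).natDegree ≤ n := by
    intro z
    refine natDegree_mul_le.trans ?_
    rw [natDegree_intCast, natDegree_X]
    omega
  have hz : (0 : k[X]).natDegree ≤ n := by rw [natDegree_zero]; omega
  have ho : (1 : k[X]).natDegree ≤ n := by rw [natDegree_one]; omega
  rcases a with i' | u <;> rcases b with i | s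
  · show ((if i' = i then 1 else 0 : k[X])).natDegree ≤ n
    split_ifs
    · exact ho
    · exact hz
  · simp only [xMatR, Matrix.of_apply]
    split_ifs
    · exact hz
    · exact hi _
    · exact hz
  · simp only [xMatR, Matrix.of_apply]
    split_ifs
    · have := hi (-((D.cartanSR.getD i.val #[]).getD r.val 0))
      rwa [Int.cast_neg] at this
    · exact hz
  · simp only [xMatR, Matrix.of_apply]
    split_ifs with h1 h2' h3 h4 h5 h6
    · exact ho
    · exact hz
    · exact ho
    · rw [natDegree_neg, natDegree_X_pow]; exact h2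
    · exact hz
    all_goals
      refine (natDegree_add_le _ _).trans (max_le (by first | exact ho | exact hz) ?_)
      refine natDegree_sum_le _ fun f hf => ?_
      obtain ⟨km, hkm, rfl⟩ := List.mem_map.1 hf
      refine natDegree_mul_le.trans ?_
      rw [natDegree_intCast, natDegree_X_pow, zero_add]
      exact chainCoeff_le h hkm

theorem xR_natDegree {D : ChevalleyDatum} {k : Type*} [Field k] {n : ℕ} (h : lenCheck D n = true) (h2 : 2 ≤ n)
    (r : ℕ) (a b : D.Idx) : (xR D k[X] r X a b).natDegree ≤ n := by
  unfold xR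
  split_ifs with hr
  · exact xMatR_natDegree h h2 ⟨r, hr⟩ a b
  · rw [Matrix.one_apply]
    split_ifs
    · rw [natDegree_one]; omega
    · rw [natDegree_zero]; omega

/-- evaluation of `x_r(u X ^ j)` -/
theorem xR_eval (D : ChevalleyDatum) {k : Type*} [Field k] (r : ℕ) (f : k[X]) (c : k) :
    (xR D k[X] r f).map (eval c) = xR D k r (f.eval c) := by
  have := xR_map D (evalRingHom c) r f
  rw [coe_evalRingHom] at this
  exact this

theorem xR_comp (D : ChevalleyDatum) {k : Type*} [Field k] (r : ℕ) (f : k[X]) :
    (xR D k[X] r X).map (fun p => p.comp f) = xR D k[X] r f := by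
  have := xR_map D (compRingHom f) r X
  rw [coe_compRingHom] at this
  rw [this]
  show xR D k[X] r (X.comp f) = _
  rw [X_comp]

/-- the degrees of the entries of `x_r(u X)` -/
theorem xR_natDegree' {D : ChevalleyDatum} {k : Type*} [Field k] {n : ℕ} (h : lenCheck D n = true) (h2 : 2 ≤ n)
    (r : ℕ) (u : k) (a b : D.Idx) : (xR D k[X] r (C u * X) a b).natDegree ≤ n := by
  rw [← xR_comp, Matrix.map_apply]
  refine natDegree_comp_le.trans ?_
  have h1 := xR_natDegree (k := k) h h2 r a b
  have h3 : (C u * X : k[X]).natDegree ≤ 1 := (natDegree_C_mul_le u X).trans natDegree_X_le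
  calc _ ≤ n * 1 := Nat.mul_le_mul h1 h3
    _ = n := mul_one n

end Cfsg.Agent.H508.Dens
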