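import Cfsg.Agent.H508.Dens.Poly
import Cfsg.Agent.H508.Dens.Deg

/-!
# Frame automorphisms of Frobenius type on root elements (helper508, hub H9)

* `frob_form` : `τ (x_a(c)) = x_{ga}(u c^(r^e))`, `u ≠ 0`;
* `card_fix` : the equation `u c^Q = c` has `Q` solutions.
-/

set_option autoImplicit false
set_option linter.unusedSectionVars false

namespace Cfsg.Agent.H508.Dens

open CoxeterSystem Cfsg Cfsg.Lie Cfsg.Agent.ChevalleyStructure Cfsg.Agent.ChevalleyStructure.Elts
  Cfsg.Agent.ChevalleyStructure.CoxeterGeom Cfsg.Agent.ChevalleyStructure.CoxeterGeomTypes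
  Cfsg.Agent.ChevalleyStructure.NPerm Cfsg.Agent.Tits.Roots Cfsg.Agent.Tits.Core Cfsg.Agent.Nodes.Reps
  Cfsg.Agent.Nodes.BNOf Cfsg.Agent.Nodes.RGDChev Cfsg.Agent.KFacts.RgdChevCoord Cfsg.Agent.LangThm
  Cfsg.Agent.BpExc.Fr Cfsg.Agent.BpExc.LangFr

universe u

/-- the equation `u c^Q = c` has `Q` solutions -/
theorem card_fix {k : Type u} [Field k] [IsAlgClosed k] {u : k} (hu : u ≠ 0) {Q : ℕ} (hQ : 1 < Q) (hQ0 : (Q : k) = 0) :
    ∃ Z : Finset k, Q ≤ Z.card ∧ ∀ c ∈ Z, u * c ^ Q = c := by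
  classical
  let f : Polynomial k := Polynomial.C u * Polynomial.X ^ Q - Polynomial.X
  have hdeg : f.natDegree = Q := by
    show (Polynomial.C u * Polynomial.X ^ Q - Polynomial.X).natDegree = Q
    rw [Polynomial.natDegree_sub_eq_left_of_natDegree_lt]
    · rw [Polynomial.natDegree_C_mul_X_pow _ _ hu]
    · rw [Polynomial.natDegree_C_mul_X_pow _ _ hu, Polynomial.natDegree_X]
      exact hQ
  have hf0 : f ≠ 0 := by
    intro h
    rw [h, Polynomial.natDegree_zero] at hdeg
    omega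
  have hder : Polynomial.derivative f = -1 := by
    show Polynomial.derivative (Polynomial.C u * Polynomial.X ^ Q - Polynomial.X) = -1
    rw [Polynomial.derivative_sub, Polynomial.derivative_C_mul, Polynomial.derivative_X_pow, Polynomial.derivative_X,
      hQ0, Polynomial.C_0, zero_mul, mul_zero, zero_sub]
  have hsep : f.Separable := by
    rw [Polynomial.separable_def, hder]
    exact IsCoprime.neg_right (isCoprime_one_right)
  have hroots : f.roots.card = Q := by
    rw [← hdeg]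
    exact (IsAlgClosed.splits f).natDegree_eq_card_roots.symm
  refine ⟨f.roots.toFinset, ?_, fun c hc => ?_⟩
  · rw [Multiset.toFinset_card_of_nodup (Polynomial.nodup_roots hsep), hroots]
  · rw [Multiset.mem_toFinset, Polynomial.mem_roots hf0] at hc
    have h1 : (Polynomial.C u * Polynomial.X ^ Q - Polynomial.X : Polynomial k).eval c = 0 := hc
    rw [Polynomial.eval_sub, Polynomial.eval_mul, Polynomial.eval_C, Polynomial.eval_pow, Polynomial.eval_X,
      sub_eq_zero] at h1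
    exact h1

/-- a polynomial with a polynomial inverse is linear -/
theorem linear_of_inverse {k : Type u} [Field k] [Infinite k] {P P' : Polynomial k}
    (h : ∀ t : k, P.eval (P'.eval t) = t) (h0 : P.eval 0 = 0) : ∃ u : k, u ≠ 0 ∧ ∀ t, P.eval t = u * t := by
  have h1 : P.comp P' = Polynomial.X := by
    apply Polynomial.funext
    intro t
    rw [Polynomial.eval_comp, h, Polynomial.eval_X]
  have h2 : P.natDegree * P'.natDegree = 1 := by
    rw [← Polynomial.natDegree_comp, h1, Polynomial.natDegree_X]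
  have h3 : P.natDegree = 1 := Nat.eq_one_of_mul_eq_one_right h2
  have h4 := Polynomial.eq_X_add_C_of_natDegree_le_one h3.le
  have h5 : P.coeff 0 = 0 := by rw [Polynomial.coeff_zero_eq_eval_zero, h0]
  refine ⟨P.coeff 1, ?_, fun t => ?_⟩
  · intro h6
    rw [h5, h6] at h4
    simp only [map_zero, zero_mul, add_zero] at h4
    rw [h4, Polynomial.natDegree_zero] at h3
    omega
  · conv_lhs => rw [h4, h5]
    simp

variable {D : ChevalleyDatum} {k : Type u} [Field k]
variable {l : ℕ} {M : CoxeterMatrix (Fin l)} (hp : IsType D l M) {W : Type*} [Group W] (cs : CoxeterSystem M W)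
  {r e : ℕ} [Fact r.Prime] [CharP k r] {τ : MulAut ↥(D.group k)} {g : (Fin l → ℤ) ≃+ (Fin l → ℤ)}

include hp cs in
/-- **Frame automorphisms of Frobenius type on root elements.** -/
theorem frob_form [IsAlgClosed k] (hτ : IsFrob r e τ) (F : Fr cs hp.isCartan (TT D k) (XX D l k) τ g)
    {a : Fin l → ℤ} (ha : IsRoot cs hp.isCartan a) :
    ∃ u : k, u ≠ 0 ∧ ∀ c : k, τ (xc hp a c) = xc hp (g a) (u * c ^ r ^ e) := by
  obtain ⟨J, hJ⟩ := hτ
  have hga : IsRoot cs hp.isCartan (g a) := (F.root a).2 ha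
  have hmap := F.map a ha
  obtain ⟨s, hs, e1⟩ := (isRoot_iff hp cs a).1 ha
  obtain ⟨s', hs', e2⟩ := (isRoot_iff hp cs (g a)).1 hga
  rw [← e2, ← e1] at hmap
  have h1 : ∀ t : k, ∃ u : k, J * xG hp.inList s t * J⁻¹ = xG hp.inList s' u := by
    intro t
    obtain ⟨t', ht'⟩ : ∃ t' : k, t' ^ r ^ e = t :=
      IsAlgClosed.exists_pow_nat_eq t (pow_pos (Fact.out : r.Prime).pos e)
    have h1 := (hmap ⟨xG hp.inList s t', xG_mem_group hp.inList s t'⟩).2 ((mem_XX_vec hp hs).2 ⟨t', rfl⟩)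
    obtain ⟨u, hu⟩ := (mem_XX_vec hp hs').1 h1
    refine ⟨u, ?_⟩
    rw [hJ] at hu
    rw [← hu, frob_xG, ht']
  have h2 : ∀ t : k, ∃ u : k, J⁻¹ * xG hp.inList s' t * J⁻¹⁻¹ = xG hp.inList s u := by
    intro t
    let y := τ⁻¹ ⟨xG hp.inList s' t, xG_mem_group hp.inList s' t⟩
    have hy : τ y = ⟨xG hp.inList s' t, xG_mem_group hp.inList s' t⟩ := MulAut.apply_inv_self _ _ _
    have h3 : y ∈ XX D l k (vec D l s) := (hmap y).1 (by rw [hy]; exact (mem_XX_vec hp hs').2 ⟨t, rfl⟩)
    obtain ⟨u, hu⟩ := (mem_XX_vec hp hs).1 h3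
    refine ⟨u ^ r ^ e, ?_⟩
    have h4 := hJ y
    rw [hy, hu, frob_xG] at h4
    have h5 : xG hp.inList s' t = J * xG hp.inList s (u ^ r ^ e) * J⁻¹ := h4
    rw [h5]
    group
  obtain ⟨P, hP⟩ := exists_poly hp.inList J h1
  obtain ⟨P', hP'⟩ := exists_poly hp.inList J⁻¹ h2
  have h3 : ∀ t : k, P.eval (P'.eval t) = t := by
    intro t
    apply xG_injective hp.inList hs'
    rw [← hP, ← hP']
    group
  have h0 : P.eval 0 = 0 := by
    apply xG_injective hp.inList hs'
    rw [← hP, xG_zero, xG_zero]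
    group
  obtain ⟨u, hu, hu'⟩ := linear_of_inverse h3 h0
  refine ⟨u, hu, fun c => Subtype.ext ?_⟩
  rw [hJ, ← e2, ← e1, coe_xc hp hs, coe_xc hp hs', frob_xG, hP, hu']

end Cfsg.Agent.H508.Dens
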