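import Mathlib

/-!
# Stability of a subspace under products of polynomial matrices (helper508, hub H9)

`poly_stab` : matrices `A 0, …, A (m-1)` over `k[X]`, entries of degree `< q`, value `1` at `0`; if the subspace `L` is
stable under `∏ A i (c ^ (q ^ i))` for at least `q ^ m` values `c`, then `L` is stable under `A 0 (c)` for all `c`.
-/

set_option autoImplicit false

namespace Cfsg.Agent.H508.Dens

open Polynomial Matrix

variable {k : Type*} [Field k] {N : Type*} [Fintype N] [DecidableEq N]

/-- `A 0 (X) * A 1 (X ^ q) * ⋯ * A (m-1) (X ^ (q ^ (m-1)))` -/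
noncomputable def pr (q : ℕ) (A : ℕ → Matrix N N k[X]) : ℕ → Matrix N N k[X]
  | 0 => 1
  | m + 1 => pr q A m * (A m).map (expand k (q ^ m))

theorem pr_succ (q : ℕ) (A : ℕ → Matrix N N k[X]) (m : ℕ) :
    pr q A (m + 1) = pr q A m * (A m).map (expand k (q ^ m)) := rfl

theorem pr_degree {q : ℕ} (hq : 0 < q) {A : ℕ → Matrix N N k[X]} {m : ℕ}
    (hd : ∀ i < m, ∀ a b, (A i a b).natDegree < q) (a b : N) : (pr q A m a b).natDegree < q ^ m := by
  induction m generalizing a b with
  | zero =>
    show ((1 : Matrix N N k[X]) a b).natDegree < 1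
    rw [Matrix.one_apply]
    split_ifs <;> simp
  | succ m ih =>
    have hih := fun a b => ih (fun i hi => hd i (Nat.lt_succ_of_lt hi)) a b
    rw [pr_succ, Matrix.mul_apply]
    have h1 : ∀ c ∈ (Finset.univ : Finset N),
        (pr q A m a c * (A m).map (expand k (q ^ m)) c b).natDegree ≤ q ^ (m + 1) - 1 := by
      intro c _
      refine natDegree_mul_le.trans ?_
      rw [Matrix.map_apply, natDegree_expand]
      have e1 := hih a c
      have e2 := hd m (Nat.lt_succ_self m) c b
      have e3 : (A m c b).natDegree * q ^ m ≤ (q - 1) * q ^ m := Nat.mul_le_mul_right _ (by omega)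
      have e4 : (q - 1) * q ^ m + q ^ m = q ^ (m + 1) := by
        rw [← Nat.succ_mul, Nat.succ_eq_add_one, Nat.sub_add_cancel hq, pow_succ, mul_comm]
      omega
    have h2 := natDegree_sum_le_of_forall_le _ _ h1
    have h3 : 0 < q ^ (m + 1) := pow_pos hq _
    omega

theorem pr_coeff {q : ℕ} (hq : 1 < q) {A : ℕ → Matrix N N k[X]} {m : ℕ} (hm : 0 < m)
    (h0 : ∀ i < m, ∀ a b, (A i a b).coeff 0 = (1 : Matrix N N k) a b) (a b : N) {j : ℕ} (hj : j < q) :
    (pr q A m a b).coeff j = (A 0 a b).coeff j := by
  induction m generalizing a b with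
  | zero => exact absurd hm (lt_irrefl _)
  | succ m ih =>
    rcases Nat.eq_zero_or_pos m with rfl | hm'
    · rw [pr_succ]
      rw [show pr q A 0 = (1 : Matrix N N k[X]) from rfl, one_mul, Matrix.map_apply, pow_zero, expand_one]
    · have hih := fun a b => ih hm' (fun i hi => h0 i (Nat.lt_succ_of_lt hi)) a b
      rw [pr_succ, Matrix.mul_apply, finsetSum_coeff]
      have hjm : j < q ^ m := lt_of_lt_of_le hj (Nat.le_self_pow hm'.ne' q)
      have h1 : ∀ c : N, (pr q A m a c * (A m).map (expand k (q ^ m)) c b).coeff j =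
          (A 0 a c).coeff j * (1 : Matrix N N k) c b := by
        intro c
        rw [Matrix.map_apply, coeff_mul, Finset.sum_eq_single (j, 0)]
        · rw [hih a c, coeff_expand (pow_pos (by omega) _), if_pos (dvd_zero _), Nat.zero_div,
            h0 m (Nat.lt_succ_self m)]
        · rintro ⟨u, v⟩ huv hne
          rw [Finset.HasAntidiagonal.mem_antidiagonal] at huv
          simp only at huv
          rw [coeff_expand (pow_pos (by omega) _), if_neg, mul_zero]
          intro hdvd
          rcases Nat.eq_zero_or_pos v with rfl | hv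
          · apply hne
            rw [← huv, add_zero]
          · have := Nat.le_of_dvd hv hdvd
            omega
        · intro hne
          exact absurd (Finset.HasAntidiagonal.mem_antidiagonal.2 (add_zero j)) hne
      rw [Finset.sum_congr rfl fun c _ => h1 c]
      simp [Matrix.one_apply]

theorem pr_eval (q : ℕ) (A : ℕ → Matrix N N k[X]) (m : ℕ) (c : k) :
    (pr q A m).map (eval c) = ((List.range m).map fun i => (A i).map (eval (c ^ q ^ i))).prod := by
  induction m with
  | zero =>
    show (1 : Matrix N N k[X]).map (eval c) = 1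
    rw [Matrix.map_one _ eval_zero eval_one]
  | succ m ih =>
    rw [pr_succ, List.range_succ, List.map_append, List.prod_append, ← ih, List.map_singleton,
      List.prod_singleton]
    have h1 : (pr q A m * (A m).map (expand k (q ^ m))).map (eval c) =
        (pr q A m).map (eval c) * ((A m).map (expand k (q ^ m))).map (eval c) := by
      have := Matrix.map_mul (L := pr q A m) (M := (A m).map (expand k (q ^ m))) (f := evalRingHom c)
      exact this
    rw [h1, Matrix.map_map]
    congr 1
    ext a b
    rw [Matrix.map_apply, Matrix.map_apply, Function.comp_apply, expand_eval]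

/-- a vector outside a subspace is detected by a row vector -/
theorem mem_of_forall (L : Submodule k (N → k)) {x : N → k}
    (h : ∀ f : N → k, (∀ v ∈ L, ∑ a, f a * v a = 0) → ∑ a, f a * x a = 0) : x ∈ L := by
  by_contra hx
  obtain ⟨φ, hφx, hφL⟩ := Submodule.exists_le_ker_of_notMem hx
  have key : ∀ v : N → k, φ v = ∑ a, φ (Pi.single a 1) * v a := by
    intro v
    conv_lhs => rw [← Finset.univ_sum_single v]
    rw [map_sum]
    refine Finset.sum_congr rfl fun a _ => ?_
    have : (Pi.single a (v a) : N → k) = v a • Pi.single a 1 := by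
      rw [← Pi.single_smul, smul_eq_mul, mul_one]
    rw [this, map_smul, smul_eq_mul, mul_comm]
  apply hφx
  rw [key]
  refine h _ fun v hv => ?_
  rw [← key]
  exact hφL hv

theorem poly_stab {q m : ℕ} (hq : 1 < q) (hm : 0 < m) {A : ℕ → Matrix N N k[X]}
    (hd : ∀ i < m, ∀ a b, (A i a b).natDegree < q)
    (h0 : ∀ i < m, ∀ a b, (A i a b).coeff 0 = (1 : Matrix N N k) a b)
    (L : Submodule k (N → k)) (Z : Finset k) (hZ : q ^ m ≤ Z.card)
    (h : ∀ c ∈ Z, ∀ v ∈ L, (((List.range m).map fun i => (A i).map (eval (c ^ q ^ i))).prod).mulVec v ∈ L)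
    (c : k) {v : N → k} (hv : v ∈ L) : ((A 0).map (eval c)).mulVec v ∈ L := by
  classical
  refine mem_of_forall L fun f hf => ?_
  -- the polynomial `f (P v)`
  let p : k[X] := ∑ a, C (f a) * ∑ b, pr q A m a b * C (v b)
  have hpdeg : p.natDegree < q ^ m := by
    have h1 : ∀ a ∈ (Finset.univ : Finset N), (C (f a) * ∑ b, pr q A m a b * C (v b)).natDegree ≤ q ^ m - 1 := by
      intro a _
      refine (natDegree_C_mul_le _ _).trans ?_
      refine natDegree_sum_le_of_forall_le _ _ fun b _ => ?_
      refine (natDegree_mul_C_le _ _).trans ?_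
      have := pr_degree (by omega) hd a b
      omega
    have h2 := natDegree_sum_le_of_forall_le _ _ h1
    have h3 : 0 < q ^ m := pow_pos (by omega) _
    exact lt_of_le_of_lt h2 (by omega)
  have hpe : ∀ c, p.eval c = ∑ a, f a * (((pr q A m).map (eval c)).mulVec v) a := by
    intro c
    show (∑ a, C (f a) * ∑ b, pr q A m a b * C (v b)).eval c = _
    rw [eval_finsetSum]
    refine Finset.sum_congr rfl fun a _ => ?_
    rw [eval_mul, eval_C, eval_finsetSum]
    congr 1
    show _ = ∑ b, (pr q A m).map (eval c) a b * v b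
    refine Finset.sum_congr rfl fun b _ => ?_
    rw [eval_mul, eval_C, Matrix.map_apply]
  have hp0 : p = 0 := by
    by_contra hne
    have h1 : ∀ c ∈ Z, p.eval c = 0 := by
      intro c hc
      rw [hpe, pr_eval]
      exact hf _ (h c hc v hv)
    have h2 : Z ⊆ p.roots.toFinset := by
      intro c hc
      rw [Multiset.mem_toFinset, mem_roots hne]
      exact h1 c hc
    have h3 := Finset.card_le_card h2
    have h4 := Multiset.toFinset_card_le p.roots
    have h5 := card_roots' p
    omega
  have hcoeff : ∀ j < q, ∑ a, f a * ∑ b, (A 0 a b).coeff j * v b = 0 := by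
    intro j hj
    have h1 : p.coeff j = 0 := by rw [hp0, coeff_zero]
    rw [← h1]
    show _ = (∑ a, C (f a) * ∑ b, pr q A m a b * C (v b)).coeff j
    rw [finsetSum_coeff]
    refine Finset.sum_congr rfl fun a _ => ?_
    rw [coeff_C_mul, finsetSum_coeff]
    congr 1
    refine Finset.sum_congr rfl fun b _ => ?_
    rw [coeff_mul_C, pr_coeff hq hm h0 a b hj]
  have h2 : ∑ a, f a * (((A 0).map (eval c)).mulVec v) a =
      ∑ j ∈ Finset.range q, c ^ j * ∑ a, f a * ∑ b, (A 0 a b).coeff j * v b := by
    simp_rw [Finset.mul_sum]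
    rw [Finset.sum_comm]
    refine Finset.sum_congr rfl fun a _ => ?_
    rw [Finset.sum_comm]
    show f a * ∑ b, (A 0).map (eval c) a b * v b = _
    rw [Finset.mul_sum]
    refine Finset.sum_congr rfl fun b _ => ?_
    rw [Matrix.map_apply, eval_eq_sum_range' (hd 0 hm a b), Finset.sum_mul, Finset.mul_sum]
    refine Finset.sum_congr rfl fun j _ => ?_
    ring
  rw [h2]
  refine Finset.sum_eq_zero fun j hj => ?_
  rw [hcoeff j (Finset.mem_range.1 hj), mul_zero]

end Cfsg.Agent.H508.Dens
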